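import Groth.Prelude.Def_Frob
import Groth.Prelude.Def_FrobAlg
import Groth.Agent.FrobSmoothLib.Global
import Mathlib.AlgebraicGeometry.Pullbacks
import Mathlib.AlgebraicGeometry.Morphisms.Smooth
import Mathlib.AlgebraicGeometry.Morphisms.Flat

/-! The relative Frobenius of a smooth morphism is flat. -/

universe u

open CategoryTheory CategoryTheory.Limits AlgebraicGeometry

noncomputable section

namespace Groth.Agent.FrobSchLib

variable (p : ℕ) [Fact p.Prime]

theorem charP_of_spec {A : Type u} [CommRing A] [Nontrivial A] {X : Scheme.{u}} [FrobSch.IsCharP X p]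
    (i : Spec (CommRingCat.of A) ⟶ X) : CharP A p := by
  have h : (p : A) = 0 := by
    have := congrArg (fun s => (Scheme.ΓSpecIso (CommRingCat.of A)).hom (i.appTop s))
      (FrobSch.IsCharP.natCast_eq_zero (X := X) (p := p))
    simpa using this
  exact (CharP.charP_iff_prime_eq_zero Fact.out).2 h

theorem frob_Spec (A : Type u) [CommRing A] [CharP A p] [FrobSch.IsCharP (Spec (CommRingCat.of A)) p] :
    FrobSch.frob (Spec (CommRingCat.of A)) p = Spec.map (CommRingCat.ofHom (frobenius A p)) := by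
  refine ext_of_isAffine ?_
  rw [← cancel_epi (Scheme.ΓSpecIso (CommRingCat.of A)).inv, ← Scheme.ΓSpecIso_inv_naturality]
  ext a
  show (Scheme.ΓSpecIso (CommRingCat.of A)).inv a ^ p = (Scheme.ΓSpecIso (CommRingCat.of A)).inv (frobenius A p a)
  rw [frobenius_def, map_pow]

variable {X S : Scheme.{u}} [FrobSch.IsCharP S p] (f : X ⟶ S)

theorem flat_relFrob_affine (A B : Type u) [CommRing A] [CommRing B] [CharP A p] [CharP B p] [Algebra A B]
    [Algebra.Smooth A B] (iU : Spec (CommRingCat.of B) ⟶ X) [IsOpenImmersion iU]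
    (iV : Spec (CommRingCat.of A) ⟶ S) [IsOpenImmersion iV]
    (hsq : iU ≫ f = Spec.map (CommRingCat.ofHom (algebraMap A B)) ≫ iV) :
    Flat (iU ≫ FrobSch.relFrob f p) := by
  haveI : FrobSch.IsCharP X p := FrobSch.IsCharP.of_hom f p
  haveI : FrobSch.IsCharP (Spec (CommRingCat.of A)) p := FrobSch.IsCharP.of_hom iV p
  haveI : FrobSch.IsCharP (Spec (CommRingCat.of B)) p := FrobSch.IsCharP.of_hom iU p
  let g : Spec (CommRingCat.of B) ⟶ Spec (CommRingCat.of A) := Spec.map (CommRingCat.ofHom (algebraMap A B))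
  let F : Spec (CommRingCat.of (FrobAlg.Twist p A)) ⟶ Spec (CommRingCat.of A) :=
    Spec.map (CommRingCat.ofHom (algebraMap A (FrobAlg.Twist p A)))
  let e : Spec (CommRingCat.of (FrobAlg.Twist p A)) ⟶ S :=
    Spec.map (CommRingCat.ofHom (FrobAlg.toTwist p A).toRingHom) ≫ iV
  haveI : IsIso (CommRingCat.ofHom (FrobAlg.toTwist p A).toRingHom) :=
    (ConcreteCategory.isIso_iff_bijective _).2 (FrobAlg.toTwist p A).bijective
  have hF : F ≫ iV = e ≫ FrobSch.frob S p := by
    show _ = (_ ≫ iV) ≫ _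
    rw [Category.assoc, ← FrobSch.frob_comp p iV, frob_Spec, ← Category.assoc, ← Spec.map_comp]
    rfl
  let m : pullback g F ⟶ FrobSch.frobTwist f p := pullback.map g F f (FrobSch.frob S p) iU e iV hsq.symm hF
  haveI : IsOpenImmersion m := inferInstance
  let ψ : Spec (CommRingCat.of B) ⟶ pullback g F :=
    (Spec.map (CommRingCat.ofHom (FrobAlg.relFrob p A B))) ≫ (pullbackSpecIso A B (FrobAlg.Twist p A)).inv
  have hψ : ψ ≫ m = iU ≫ FrobSch.relFrob f p := by
    apply pullback.hom_ext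
    · simp only [m, ψ, Category.assoc, pullback.lift_fst, FrobSch.relFrob_fst]
      rw [pullbackSpecIso_inv_fst'_assoc, ← Spec.map_comp_assoc, ← FrobSch.frob_comp p iU, frob_Spec]
      congr 2
      ext b
      show FrobAlg.relFrob p A B (b ⊗ₜ 1) = frobenius B p b
      rw [FrobSmoothLib.relFrob_tmul', frobenius_def]
      simp
    · simp only [m, ψ, Category.assoc, pullback.lift_snd, FrobSch.relFrob_snd, hsq, e]
      rw [pullbackSpecIso_inv_snd_assoc, ← Spec.map_comp_assoc, ← Spec.map_comp_assoc]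
      congr 2
      ext a
      show FrobAlg.relFrob p A B (1 ⊗ₜ FrobAlg.toTwist p A a) = algebraMap A B a
      rw [FrobSmoothLib.relFrob_tmul']
      simp
  haveI : Flat (Spec.map (CommRingCat.ofHom (FrobAlg.relFrob p A B))) :=
    (HasRingHomProperty.Spec_iff (P := @Flat)).2 FrobSmoothLib.flat_relFrob_any
  rw [← hψ]
  infer_instance

theorem flat_relFrob [Smooth f] : Flat (FrobSch.relFrob f p) := by
  haveI : FrobSch.IsCharP X p := FrobSch.IsCharP.of_hom f p
  have hcov : ⨆ U : {U : X.affineOpens // ∃ V : S.affineOpens, U.1 ≤ f ⁻¹ᵁ V.1}, U.1.1 = ⊤ := by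
    refine top_le_iff.1 fun x _ => ?_
    obtain ⟨V, hV, hxV, -⟩ := S.isBasis_affineOpens.exists_subset_of_mem_open (Set.mem_univ (f x)) isOpen_univ
    obtain ⟨V', hV', rfl⟩ := hV
    obtain ⟨U, hU, hxU, hUV⟩ := X.isBasis_affineOpens.exists_subset_of_mem_open
      (show x ∈ (f ⁻¹ᵁ V' : Set X) from hxV) (f ⁻¹ᵁ V').isOpen
    obtain ⟨U', hU', rfl⟩ := hU
    exact TopologicalSpace.Opens.mem_iSup.2 ⟨⟨⟨U', hU'⟩, ⟨V', hV'⟩, hUV⟩, hxU⟩
  refine (IsZariskiLocalAtSource.iff_of_iSup_eq_top (P := @Flat) _ hcov).2 fun ⟨⟨U, hU⟩, ⟨V, hV⟩, hUV⟩ => ?_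
  rcases isEmpty_or_nonempty U with h | h
  · infer_instance
  haveI : Nontrivial Γ(X, U) := by
    haveI : Nonempty (Spec Γ(X, U)) := ⟨hU.isoSpec.hom (Classical.arbitrary _)⟩
    exact PrimeSpectrum.nonempty_iff_nontrivial.1 ‹_›
  haveI : Nontrivial Γ(S, V) := (f.appLE V U hUV).hom.domain_nontrivial
  letI := (f.appLE V U hUV).hom.toAlgebra
  haveI : Algebra.Smooth Γ(S, V) Γ(X, U) := f.smooth_appLE hV hU hUV
  haveI : CharP Γ(S, V) p := charP_of_spec p hV.fromSpec
  haveI : CharP Γ(X, U) p := charP_of_spec p hU.fromSpec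
  have h1 := flat_relFrob_affine p f Γ(S, V) Γ(X, U) hU.fromSpec hV.fromSpec
    (IsAffineOpen.SpecMap_appLE_fromSpec f hV hU hUV).symm
  rw [← hU.isoSpec_hom_fromSpec, Category.assoc]
  infer_instance

end Groth.Agent.FrobSchLib
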